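import Cfsg.Agent.Characters.Orthogonality
import Cfsg.Agent.Characters.Linear
import Cfsg.Agent.PrincipalBlock.Kernel
import Cfsg.Agent.Coprime.ActionHom
import Mathlib.GroupTheory.Nilpotent

/-!
# Faithful invariant characters under a p-group with one subgroup of order p

If a p-group with a unique subgroup of order p acts nontrivially there on a group of order prime
to p, a faithful invariant character has degree squared greater than the order of the p-group.
-/

set_option autoImplicit false
set_option linter.style.haveILetI false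

namespace CfsgLib.TICharacter

open Cfsg CfsgLib.Characters
open scoped ComplexConjugate

universe u v

/-- Class two: a nonlinear invariant irreducible character is large. -/
theorem card_lt_degree_sq {Q : Type u} [Group Q] [Fintype Q] {S : Type v} [Group S] [Finite S]
    (α : S →* MulAut Q) (θ : IrrCharacter Q)
    (hinv : ∀ w : S, ∀ q : Q, (θ : Q → ℂ) (α w q) = (θ : Q → ℂ) q)
    (x : S) (huniq : ∀ w : S, w ≠ 1 → x ∈ Subgroup.zpowers w)
    (hgen : Subgroup.closure (Set.range fun q : Q => q⁻¹ * α x q) = ⊤)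
    (hc : commutator Q ≤ Subgroup.center Q) {n : ℕ} (hn : (θ : Q → ℂ) 1 = n) (hn2 : 2 ≤ n) :
    Nat.card S < n ^ 2 := by
  classical
  obtain ⟨m, ρ, hρ, hθ⟩ := id θ.2
  have hm : m = n := by
    have h := hn
    rw [← hθ, Representation.char_one, Module.finrank_fin_fun] at h
    exact_mod_cast h
  set K := PrincipalBlock.charKer θ with hK
  let π := QuotientGroup.mk' K
  set Z := (Subgroup.center (Q ⧸ K)).comap π with hZdef
  have hKρ : ∀ g ∈ K, ρ g = 1 := fun g hg =>
    PrincipalBlock.rep_eq_one_of_char_eq ρ (by rw [hθ]; exact hg)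
  have hmemZ : ∀ g : Q, g ∈ Z ↔ ∀ h : Q, g * h * g⁻¹ * h⁻¹ ∈ K := by
    intro g
    simp only [hZdef, Subgroup.mem_comap, Subgroup.mem_center_iff, QuotientGroup.forall_mk, π,
      QuotientGroup.mk'_apply]
    refine forall_congr' fun h => ?_
    rw [← QuotientGroup.eq_one_iff, QuotientGroup.mk_mul, QuotientGroup.mk_mul,
      QuotientGroup.mk_mul, QuotientGroup.mk_inv, QuotientGroup.mk_inv, ← commutatorElement_def,
      commutatorElement_eq_one_iff_mul_comm]
    exact eq_comm
  have hzero : ∀ g : Q, g ∉ Z → (θ : Q → ℂ) g = 0 := by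
    intro g hg
    rw [hmemZ] at hg
    push Not at hg
    obtain ⟨h, hh⟩ := hg
    have hzc : g * h * g⁻¹ * h⁻¹ ∈ Subgroup.center Q :=
      hc (Subgroup.commutator_mem_commutator (Subgroup.mem_top g) (Subgroup.mem_top h))
    obtain ⟨ω, hω⟩ := central_scalar ρ hzc
    have hval : ∀ v : Q,
        (θ : Q → ℂ) (g * h * g⁻¹ * h⁻¹ * v) = ω * (θ : Q → ℂ) v := by
      intro v
      rw [← hθ, Representation.character, map_mul, hω, smul_mul_assoc,
        show (LinearMap.id : Module.End ℂ (Fin m → ℂ)) = 1 from rfl, one_mul, map_smul,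
        smul_eq_mul]
      rfl
    have hω1 : ω ≠ 1 := by
      intro h1
      have := hval 1
      rw [mul_one, h1, one_mul] at this
      exact hh this
    have h2 := hval (h * g * h⁻¹)
    rw [show g * h * g⁻¹ * h⁻¹ * (h * g * h⁻¹) = g by group,
      isClassFunction_of_isIrr θ.2 g h] at h2
    by_contra hne
    exact hω1 (mul_right_cancel₀ hne (h2.symm.trans (one_mul _).symm))
  -- `Z` is proper
  have hsum : ∑ g : Q, Complex.normSq ((θ : Q → ℂ) g) = (Nat.card Q : ℝ) := by
    have h := classInner_isIrr_self θ.2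
    rw [Cfsg.classInner, inv_mul_eq_one₀ natCard_ne_zero] at h
    have h' := congrArg Complex.re h
    rw [Complex.re_sum, Complex.natCast_re] at h'
    rw [h']
    exact Finset.sum_congr rfl fun g _ => by rw [Complex.mul_conj, Complex.ofReal_re]
  have hnorm : ∀ g : Q, Complex.normSq ((θ : Q → ℂ) g) ≤ (n : ℝ) ^ 2 := fun g => by
    rw [Complex.normSq_eq_norm_sq, ← hm]
    refine pow_le_pow_left₀ (norm_nonneg _) ?_ 2
    have := norm_char_le ρ g
    rwa [hθ, Module.finrank_fin_fun] at this
  have hZcard : (Nat.card Q : ℝ) ≤ (Nat.card Z : ℝ) * (n : ℝ) ^ 2 := by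
    rw [← hsum, ← Finset.sum_filter_add_sum_filter_not Finset.univ (· ∈ Z),
      Finset.sum_eq_zero (s := Finset.univ.filter (· ∉ Z)) fun g hg => by
        rw [hzero g (Finset.mem_filter.1 hg).2, map_zero], add_zero]
    refine (Finset.sum_le_card_nsmul _ _ _ fun g _ => hnorm g).trans (le_of_eq ?_)
    rw [nsmul_eq_mul, ← Fintype.card_subtype, ← Nat.card_eq_fintype_card]
  have hindex : Z.index ≤ n ^ 2 := by
    have h : (Nat.card Z * Z.index : ℝ) ≤ (Nat.card Z : ℝ) * (n : ℝ) ^ 2 := by
      rw [← Nat.cast_mul, Subgroup.card_mul_index]; exact hZcard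
    exact_mod_cast le_of_mul_le_mul_left h (Nat.cast_pos.2 Nat.card_pos)
  have hZne : Z ≠ ⊤ := by
    intro htop
    have hscal : ∀ g : Q, ∃ c : ℂ, ρ g = c • LinearMap.id := fun g => by
      refine schur_scalar ρ _ fun h v => ?_
      rw [← Module.End.mul_apply, ← map_mul, ← Module.End.mul_apply, ← map_mul]
      have e : g * h = g * h * g⁻¹ * h⁻¹ * (h * g) := by group
      rw [e, map_mul, hKρ _ ((hmemZ g).1 (htop ▸ Subgroup.mem_top g) h), one_mul]
    have hall : ∀ g : Q, Complex.normSq ((θ : Q → ℂ) g) = (n : ℝ) ^ 2 := fun g => by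
      obtain ⟨c, hc⟩ := hscal g
      obtain ⟨c', hc'⟩ := hscal g⁻¹
      have hch : ∀ (a : Q) (b : ℂ), ρ a = b • LinearMap.id → (θ : Q → ℂ) a = b * n := by
        intro a b hb
        rw [← hθ, Representation.character, hb, map_smul,
          show (LinearMap.id : Module.End ℂ (Fin m → ℂ)) = 1 from rfl, LinearMap.trace_one,
          Module.finrank_fin_fun, hm, smul_eq_mul]
      have hcc : c * c' * (n : ℂ) = n := by
        rw [← hch 1 (c * c') ?_, hn]
        rw [← mul_inv_cancel g, map_mul, hc, hc', smul_mul_smul_comm]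
        rfl
      have h2 : (((Complex.normSq ((θ : Q → ℂ) g)) : ℝ) : ℂ) = (((n : ℝ) ^ 2 : ℝ) : ℂ) := by
        rw [← Complex.mul_conj, ← character_inv (isCharacter_of_isIrr θ.2), hch g c hc,
          hch g⁻¹ c' hc']
        push_cast
        linear_combination (n : ℂ) * hcc
      exact Complex.ofReal_injective h2
    rw [Finset.sum_congr rfl fun g _ => hall g, Finset.sum_const, Finset.card_univ,
      nsmul_eq_mul, ← Nat.card_eq_fintype_card] at hsum
    have : (n : ℝ) ^ 2 = 1 :=
      mul_left_cancel₀ (Nat.cast_ne_zero.2 Nat.card_pos.ne') (hsum.trans (mul_one _).symm)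
    have hn' : (n ^ 2 : ℕ) = 1 := by exact_mod_cast this
    nlinarith
  -- an element moved modulo `Z`
  obtain ⟨g, hg⟩ : ∃ g : Q, g⁻¹ * α x g ∉ Z := by
    by_contra hall
    push Not at hall
    refine hZne (top_le_iff.1 (hgen ▸ (Subgroup.closure_le _).2 ?_))
    rintro _ ⟨q, rfl⟩
    exact hall q
  have hKinv : ∀ (w : S) (q : Q), q ∈ K → α w q ∈ K := fun w q hq => by
    rw [hK, PrincipalBlock.mem_charKer] at hq ⊢
    rw [hinv, hq]
  have hZinv : ∀ (w : S) (q : Q), q ∈ Z → α w q ∈ Z := fun w q hq => by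
    rw [hmemZ] at hq ⊢
    intro h
    have := hKinv w _ (hq ((α w).symm h))
    simpa only [map_mul, map_inv, MulEquiv.apply_symm_apply] using this
  have hgZ : ∀ w : S, α w g ∉ Z := by
    intro w hw
    have hgZ : g ∈ Z := by
      have := hZinv w⁻¹ _ hw
      rwa [← MulAut.mul_apply, ← map_mul, inv_mul_cancel, map_one, MulAut.one_apply] at this
    exact hg (mul_mem (inv_mem hgZ) (hZinv x g hgZ))
  let W : Subgroup S :=
    { carrier := {w | g⁻¹ * α w g ∈ Z}
      one_mem' := by simp
      mul_mem' := fun {a b} ha hb => by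
        have h := mul_mem ha (hZinv a _ hb)
        rw [map_mul, map_inv] at h
        show g⁻¹ * α (a * b) g ∈ Z
        rw [map_mul, MulAut.mul_apply]
        simpa [mul_assoc] using h
      inv_mem' := fun {a} ha => by
        have h := inv_mem (hZinv a⁻¹ _ ha)
        rw [map_mul, map_inv (α a⁻¹), ← MulAut.mul_apply, ← map_mul α, inv_mul_cancel, map_one,
          MulAut.one_apply, mul_inv_rev, inv_inv] at h
        exact h }
  have hW : ∀ w ∈ W, w = 1 := fun w hw => by
    by_contra hne
    exact hg (Subgroup.zpowers_le.2 hw (huniq w hne))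
  let F : Option S → Q ⧸ Z := fun o => o.elim ((1 : Q) : Q ⧸ Z) fun w => ((α w g : Q) : Q ⧸ Z)
  have hF : Function.Injective F := by
    rintro (_ | a) (_ | b) hab
    · rfl
    · have := QuotientGroup.eq.1 hab
      rw [inv_one, one_mul] at this
      exact absurd this (hgZ b)
    · have := QuotientGroup.eq.1 hab
      rw [mul_one, inv_mem_iff] at this
      exact absurd this (hgZ a)
    · have h := hZinv a⁻¹ _ (QuotientGroup.eq.1 hab)
      rw [map_mul, map_inv (α a⁻¹), ← MulAut.mul_apply, ← MulAut.mul_apply, ← map_mul α,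
        ← map_mul α, inv_mul_cancel, map_one, MulAut.one_apply] at h
      have := hW _ (show a⁻¹ * b ∈ W from h)
      rw [inv_mul_eq_one] at this
      rw [this]
  have hle := Nat.card_le_card_of_injective F hF
  rw [Finite.card_option, ← Subgroup.index_eq_card] at hle
  omega

/-- The automorphism action restricted to an invariant subgroup. -/
def restrictAct {Q : Type u} [Group Q] {P : Type v} [Group P] (α : P →* MulAut Q) (H : Subgroup Q)
    (hH : ∀ w : P, ∀ q ∈ H, α w q ∈ H) : P →* MulAut H where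
  toFun w :=
    { toFun := fun q => ⟨α w (q : Q), hH w q q.2⟩
      invFun := fun q => ⟨α w⁻¹ (q : Q), hH w⁻¹ q q.2⟩
      left_inv := fun q => Subtype.ext (by simp)
      right_inv := fun q => Subtype.ext (by simp)
      map_mul' := fun a b => Subtype.ext (map_mul (α w) (a : Q) b) }
  map_one' := MulEquiv.ext fun q => Subtype.ext (by simp)
  map_mul' a b := MulEquiv.ext fun q => Subtype.ext (by simp)

theorem restrictAct_apply {Q : Type u} [Group Q] {P : Type v} [Group P] (α : P →* MulAut Q)
    (H : Subgroup Q) (hH : ∀ w : P, ∀ q ∈ H, α w q ∈ H) (w : P) (q : H) :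
    ((restrictAct α H hH w q : H) : Q) = α w (q : Q) := rfl

theorem card_lt_sq_of_nilpotent_aux {p : ℕ} [Fact p.Prime] {P : Type v} [Group P] [Finite P]
    (x : P) (hx1 : x ≠ 1) (hxp : x ^ p = 1) (hxc : ∀ u : P, u * x = x * u)
    (huniq : ∀ w : P, w ≠ 1 → x ∈ Subgroup.zpowers w) :
    ∀ (N : ℕ) (Q : Type u) [Group Q] [Finite Q], Nat.card Q = N → Group.IsNilpotent Q →
      (Nat.card Q).Coprime p → ∀ (α : P →* MulAut Q), (∃ q : Q, α x q ≠ q) →
      ∀ (χ : Q → ℂ), Cfsg.IsCharacter Q χ → (∀ w : P, ∀ q : Q, χ (α w q) = χ q) →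
      (∀ q : Q, χ q = χ 1 → q = 1) → ∀ d : ℕ, χ 1 = d → Nat.card P < d ^ 2 := by
  classical
  intro N
  induction N using Nat.strong_induction_on with
  | _ N ih =>
    intro Q _ _ hQN hnil hcop α hmove χ hχ hinv hfaith d hd
    haveI : Group.IsNilpotent Q := hnil
    haveI := Fintype.ofFinite Q
    by_cases hsub : ∃ H : Subgroup Q, H ≠ ⊤ ∧ (∀ w : P, ∀ q ∈ H, α w q ∈ H) ∧
        ∃ q ∈ H, α x q ≠ q
    · obtain ⟨H, hHne, hH, q, hq, hqne⟩ := hsub
      refine ih _ (hQN ▸ lt_of_le_of_ne (Subgroup.card_le_card_group H)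
        (fun h => hHne ((Subgroup.card_eq_iff_eq_top H).1 h))) H rfl inferInstance
        (hcop.coprime_dvd_left (Subgroup.card_subgroup_dvd_card H)) (restrictAct α H hH)
        ⟨⟨q, hq⟩, fun h => hqne (congrArg Subtype.val h)⟩ (fun h : H => χ h)
        (isCharacter_restrict H hχ) (fun w h => hinv w h)
        (fun h hh => Subtype.ext (hfaith _ hh)) d hd
    push Not at hsub
    -- the displacements generate `Q`
    set D := Subgroup.closure (Set.range fun q : Q => q⁻¹ * α x q) with hD
    have hDinv : ∀ w : P, ∀ q ∈ D, α w q ∈ D := by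
      intro w q hq
      refine (show D ≤ D.comap (α w).toMonoidHom from (Subgroup.closure_le _).2 ?_) hq
      rintro _ ⟨r, rfl⟩
      refine Subgroup.subset_closure ⟨α w r, ?_⟩
      show (α w r)⁻¹ * α x (α w r) = α w (r⁻¹ * α x r)
      rw [map_mul, map_inv, ← MulAut.mul_apply, ← MulAut.mul_apply, ← map_mul α, ← map_mul α,
        hxc w]
    have hgen : D = ⊤ := by
      by_contra hne
      obtain ⟨q, hq⟩ := hmove
      have hfix : α x (q⁻¹ * α x q) = q⁻¹ * α x q :=
        hsub D hne hDinv _ (Subgroup.subset_closure ⟨q, rfl⟩)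
      have hpow : ∀ i : ℕ, α (x ^ i) q = q * (q⁻¹ * α x q) ^ i := by
        intro i
        induction i with
        | zero => simp
        | succ i hi =>
          rw [pow_succ', map_mul, MulAut.mul_apply, hi, map_mul, map_pow (α x), hfix, pow_succ',
            ← mul_assoc, mul_inv_cancel_left]
      have h := hpow p
      rw [hxp, map_one, MulAut.one_apply, left_eq_mul] at h
      have h1 : orderOf (q⁻¹ * α x q) = 1 :=
        Nat.eq_one_of_dvd_coprimes hcop (orderOf_dvd_natCard _) (orderOf_dvd_of_pow_eq_one h)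
      rw [orderOf_eq_one_iff, inv_mul_eq_one] at h1
      exact hq h1.symm
    -- the commutator subgroup is fixed and central
    have hnt : Nontrivial Q := by
      obtain ⟨q, hq⟩ := hmove
      exact ⟨⟨_, _, hq⟩⟩
    have hcomm_ne : commutator Q ≠ ⊤ :=
      (Group.IsSolvable.commutator_lt_top_of_nontrivial Q).ne
    have hcinv : ∀ w : P, ∀ q ∈ commutator Q, α w q ∈ commutator Q := fun w q hq => by
      have h := Subgroup.mem_map_of_mem (α w).toMonoidHom hq
      rw [commutator_def, Subgroup.map_commutator, Subgroup.map_top_of_surjective (α w).toMonoidHom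
        (α w).surjective] at h
      exact h
    have hcfix := hsub _ hcomm_ne hcinv
    have hc : commutator Q ≤ Subgroup.center Q := by
      intro c hcm
      rw [Subgroup.mem_center_iff]
      have hle : D ≤ Subgroup.centralizer ({c} : Set Q) := by
        rw [hD, Subgroup.closure_le]
        rintro _ ⟨q, rfl⟩
        rw [SetLike.mem_coe, Subgroup.mem_centralizer_singleton_iff]
        have h := hcfix (q * c * q⁻¹) ((inferInstance : (commutator Q).Normal).conj_mem c hcm q)
        rw [map_mul, map_mul, map_inv, hcfix c hcm] at h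
        calc q⁻¹ * α x q * c = q⁻¹ * (α x q * c * (α x q)⁻¹) * α x q := by group
          _ = q⁻¹ * (q * c * q⁻¹) * α x q := by rw [h]
          _ = c * (q⁻¹ * α x q) := by group
      intro q
      exact Subgroup.mem_centralizer_singleton_iff.1 (hle (hgen ▸ Subgroup.mem_top q))
    -- a constituent
    obtain ⟨m, hm⟩ := exists_nat_coeff hχ
    have hcoef : ∀ ψ : IrrCharacter Q, Cfsg.classInner χ (ψ : Q → ℂ) = (m ψ : ℂ) := fun ψ => by
      rw [hm, classInner_irr_coeff]
    have hdeg : ∀ ψ : IrrCharacter Q, ∃ k : ℕ, 0 < k ∧ (ψ : Q → ℂ) 1 = k := fun ψ =>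
      exists_degree_pos ψ.2
    choose k hk0 hk using hdeg
    have hd' : d = ∑ ψ : IrrCharacter Q, m ψ * k ψ := by
      have h := congrFun hm 1
      rw [hd, Finset.sum_apply] at h
      simp only [Pi.smul_apply, smul_eq_mul, hk] at h
      exact_mod_cast h
    obtain ⟨θ, hθm, hθ⟩ : ∃ θ : IrrCharacter Q, m θ ≠ 0 ∧
        (2 ≤ k θ ∨ ∃ q : Q, (θ : Q → ℂ) (α x q) ≠ (θ : Q → ℂ) q) := by
      by_contra hall
      push Not at hall
      have htriv : ∀ ψ : IrrCharacter Q, m ψ ≠ 0 → ∀ q : Q, (ψ : Q → ℂ) q = 1 := by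
        intro ψ hψ
        have h1 : k ψ = 1 := by
          have := (hall ψ hψ).1; have := hk0 ψ; omega
        obtain ⟨f, hf⟩ := exists_hom_of_degree_one (isCharacter_of_isIrr ψ.2)
          (by rw [hk, h1, Nat.cast_one])
        have hle : D ≤ f.ker := by
          rw [hD, Subgroup.closure_le]
          rintro _ ⟨q, rfl⟩
          rw [SetLike.mem_coe, MonoidHom.mem_ker, map_mul, map_inv, inv_mul_eq_one]
          have h2 := (hall ψ hψ).2 q
          rw [hf] at h2
          exact (Units.ext h2).symm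
        intro q
        rw [hf]
        show ((f q : ℂˣ) : ℂ) = 1
        rw [MonoidHom.mem_ker.1 (hle (hgen ▸ Subgroup.mem_top q)), Units.val_one]
      obtain ⟨q, hq⟩ := hmove
      have h1 : ∀ g : Q, g = 1 := fun g => hfaith g (by
        rw [hm, Finset.sum_apply, Finset.sum_apply]
        refine Finset.sum_congr rfl fun ψ _ => ?_
        by_cases hψ : m ψ = 0
        · simp [hψ]
        · simp [htriv ψ hψ])
      exact hq ((h1 _).trans (h1 q).symm)
    let S : Subgroup P :=
      { carrier := {w | ∀ q : Q, (θ : Q → ℂ) (α w q) = (θ : Q → ℂ) q}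
        one_mem' := fun q => by simp
        mul_mem' := fun {a b} ha hb q => by rw [map_mul, MulAut.mul_apply, ha, hb]
        inv_mem' := fun {a} ha q => by
          rw [← ha, ← MulAut.mul_apply, ← map_mul, mul_inv_cancel, map_one, MulAut.one_apply] }
    let Φ : P → IrrCharacter Q := fun w =>
      ⟨fun q => (θ : Q → ℂ) (α w q), isIrr_comp (α w).toMonoidHom (α w).surjective θ.2⟩
    have hmΦ : ∀ w : P, m (Φ w) = m θ := by
      intro w
      have e : Cfsg.classInner χ (Φ w : Q → ℂ) = Cfsg.classInner χ (θ : Q → ℂ) := by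
        rw [Cfsg.classInner, Cfsg.classInner]
        congr 1
        refine Fintype.sum_equiv (α w).toEquiv _ _ fun q => ?_
        show χ q * _ = χ (α w q) * _
        rw [hinv]
        rfl
      rw [hcoef, hcoef] at e
      exact_mod_cast e
    have hkΦ : ∀ w : P, k (Φ w) = k θ := fun w => by
      have h := hk (Φ w)
      rw [show (Φ w : Q → ℂ) 1 = (θ : Q → ℂ) (α w 1) from rfl, map_one, hk θ] at h
      exact_mod_cast h.symm
    haveI := Fintype.ofFinite P
    set I := Finset.univ.image Φ with hI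
    have hId : I.card * k θ ≤ d := by
      rw [hd', ← smul_eq_mul, ← Finset.sum_const]
      refine (Finset.sum_le_sum (g := fun ψ => m ψ * k ψ) fun ψ hψ => ?_).trans
        (Finset.sum_le_sum_of_subset (Finset.subset_univ I))
      obtain ⟨w, -, rfl⟩ := Finset.mem_image.1 hψ
      rw [hmΦ, hkΦ]
      exact Nat.le_mul_of_pos_left _ (Nat.pos_of_ne_zero hθm)
    have hPI : Nat.card P ≤ Nat.card S * I.card := by
      rw [Nat.card_eq_fintype_card, ← Finset.card_univ]
      refine Finset.card_le_mul_card_image Finset.univ _ fun ψ hψ => ?_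
      obtain ⟨w, -, rfl⟩ := Finset.mem_image.1 hψ
      rw [← Fintype.card_subtype, ← Nat.card_eq_fintype_card]
      refine Nat.card_le_card_of_injective
        (fun u : {u : P // Φ u = Φ w} => (⟨(u : P) * w⁻¹, fun q => ?_⟩ : S))
        (fun a b hab => Subtype.ext (mul_right_cancel (congrArg Subtype.val hab)))
      have h := congrFun (congrArg Subtype.val u.2) (α w⁻¹ q)
      change (θ : Q → ℂ) (α u (α w⁻¹ q)) = (θ : Q → ℂ) (α w (α w⁻¹ q)) at h
      rw [← MulAut.mul_apply, ← MulAut.mul_apply, ← map_mul, ← map_mul, mul_inv_cancel, map_one,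
        MulAut.one_apply] at h
      exact h
    have hP2 : 2 ≤ Nat.card P := Finite.one_lt_card_iff_nontrivial.2 ⟨⟨x, 1, hx1⟩⟩
    by_cases hxS : x ∈ S
    · have hk2 : 2 ≤ k θ := by
        rcases hθ with h | ⟨q, hq⟩
        · exact h
        · exact absurd (hxS q) hq
      let β : S →* MulAut Q := α.comp S.subtype
      have hlt := card_lt_degree_sq β θ (fun w q => w.2 q) (⟨x, hxS⟩ : S)
        (fun w hw => by
          obtain ⟨i, hi⟩ := huniq (w : P) (fun h => hw (Subtype.ext h))
          exact ⟨i, Subtype.ext (by simpa using hi)⟩)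
        hgen hc (hk θ) hk2
      have hI1 : 1 ≤ I.card := Finset.card_pos.2 ⟨_, Finset.mem_image_of_mem Φ (Finset.mem_univ 1)⟩
      calc Nat.card P ≤ Nat.card S * I.card := hPI
        _ < k θ ^ 2 * I.card := Nat.mul_lt_mul_of_pos_right hlt hI1
        _ ≤ (I.card * k θ) ^ 2 := by
          rw [mul_pow, mul_comm]
          exact Nat.mul_le_mul_right _ (Nat.le_self_pow two_ne_zero _)
        _ ≤ d ^ 2 := Nat.pow_le_pow_left hId 2
    · have hS1 : Nat.card S = 1 := by
        rw [Subgroup.card_eq_one, eq_bot_iff]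
        intro w hw
        by_contra hne
        exact hxS (Subgroup.zpowers_le.2 hw (huniq w hne))
      rw [hS1, one_mul] at hPI
      have hPd : Nat.card P ≤ d := hPI.trans ((Nat.le_mul_of_pos_right _ (hk0 θ)).trans hId)
      nlinarith

/-- A p-group with one subgroup of order p acting nontrivially there on a group of order prime to
p. -/
theorem card_lt_degree_sq_of_coprime {p : ℕ} [Fact p.Prime] {P : Type v} [Group P] [Finite P]
    (hP : IsPGroup p P) (x : P) (hx1 : x ≠ 1) (hxp : x ^ p = 1) (hxc : ∀ u : P, u * x = x * u)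
    (huniq : ∀ w : P, w ≠ 1 → x ∈ Subgroup.zpowers w) {N : Type u} [Group N] [Finite N]
    (hcop : (Nat.card N).Coprime p) (α : P →* MulAut N) (hmove : ∃ g : N, α x g ≠ g)
    {χ : N → ℂ} (hχ : Cfsg.IsCharacter N χ) (hinv : ∀ w : P, ∀ g : N, χ (α w g) = χ g)
    (hfaith : ∀ g : N, χ g = χ 1 → g = 1) {d : ℕ} (hd : χ 1 = d) : Nat.card P < d ^ 2 := by
  obtain ⟨g, hg⟩ := hmove
  let F : Subgroup N :=
    { carrier := {h | α x h = h}
      one_mem' := map_one _
      mul_mem' := fun {a b} (ha : α x a = a) (hb : α x b = b) => by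
        show α x (a * b) = a * b
        rw [map_mul, ha, hb]
      inv_mem' := fun {a} (ha : α x a = a) => by
        show α x a⁻¹ = a⁻¹
        rw [map_inv, ha] }
  have hFne : F.index ≠ 1 := fun h => hg (by
    have hgF : g ∈ F := (Subgroup.index_eq_one.1 h) ▸ Subgroup.mem_top g
    exact hgF)
  obtain ⟨q, hq, hqF⟩ := Nat.exists_prime_and_dvd hFne
  haveI := Fact.mk hq
  haveI : Group.IsNilpotent P := hP.isNilpotent
  obtain ⟨k, hk⟩ := IsPGroup.iff_card.1 hP
  obtain ⟨Q, hQ⟩ := Coprime.exists_invariant_sylow_hom α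
    (by rw [hk]; exact (hcop.pow_right k).symm) (Or.inl inferInstance) q
  haveI : Group.IsNilpotent (Q : Subgroup N) := Q.isPGroup'.isNilpotent
  refine card_lt_sq_of_nilpotent_aux (p := p) x hx1 hxp hxc huniq _ (Q : Subgroup N) rfl
    inferInstance (hcop.coprime_dvd_left (Subgroup.card_subgroup_dvd_card _))
    (restrictAct α (Q : Subgroup N) hQ) ?_ (fun h : (Q : Subgroup N) => χ h)
    (isCharacter_restrict _ hχ) (fun w h => hinv w h) (fun h hh => Subtype.ext (hfaith _ hh)) d hd
  by_contra hall
  push Not at hall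
  have hle : (Q : Subgroup N) ≤ F := fun h hh => congrArg Subtype.val (hall ⟨h, hh⟩)
  exact Q.not_dvd_index (hqF.trans (Subgroup.index_dvd_of_le hle))

end CfsgLib.TICharacter
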